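import Cfsg.Agent.Lib.Recog.FiThree.Mult.Words
import Cfsg.Agent.Lib.Recog.FiThree.Transpositions
import Cfsg.Prelude.Def_KGroupFacts
import Mathlib.GroupTheory.Commutator.Basic
import Mathlib.Tactic.Group

set_option autoImplicit false
set_option maxRecDepth 20000
set_option linter.style.haveILetI false

/-!
The Schur multiplier of Fi23 is trivial (owner: helper18).

In a central extension a lift of a transposition is centralised by every preimage of its centraliser, so the lifts
of transpositions form a class. Seven commuting transpositions with product one fix the lift as an involution,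
the second relator lifts, and the first one lifts as it has order three and is inverted by an element reversing a
hexagon.
-/

namespace CfsgLib.Recog.FiThree.Mult

open Cfsg CfsgLib.Recog.BitPerm CfsgLib.Recog.SporBound CfsgLib.ThreeTrans.CosetIndex CfsgLib.Recog.FiThree
open scoped commutatorElement

attribute [local instance] finite_fi23'

local notation "G" => Cfsg.Spor.Fi23

theorem gw_spec {x : ℕ} (hx : x < 10) : word (gw x) * zz * (word (gw x))⁻¹ = gg x := by
  have h := word_eq_one (gw_conj x hx)
  rw [word_append, word_append, word_append, word_reverse, word_singleton] at h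
  exact (mul_eq_one_iff_eq_inv.1 h).trans (inv_eq_of_mul_eq_one_right (gg_sq x))

theorem pair_word {x y : ℕ} (hx : x < 10) (hy : y < 10) (hxy : x ≠ y) :
    word (if adj x y then [x, y, x, y, x, y] else [x, y, x, y]) = 1 := by
  have hall := List.all_eq_true.1 (show ((List.range 10).all fun x => (List.range 10).all fun y => Nat.beq x y ||
      (relWords Spor.Fi23.edges Spor.Fi23.extra gens).contains
        (if adj x y then [x, y, x, y, x, y] else [x, y, x, y])) = true by decide +kernel) x (List.mem_range.2 hx)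
  have hw := List.all_eq_true.1 hall y (List.mem_range.2 hy)
  rw [show Nat.beq x y = false from Bool.eq_false_iff.2 fun e => hxy (Nat.eq_of_beq_eq_true e), Bool.false_or] at hw
  exact relWord_one nodes (List.contains_iff_mem.1 hw)

theorem adj_lt : ((List.range 10).all fun x => !adj x x) = true := by decide +kernel

theorem adj_small {x y : ℕ} (h : adj x y = true) : x < 10 ∧ y < 10 ∧ x ≠ y := by
  simp only [adj, List.any_cons, List.any_nil, Bool.or_false, Bool.or_eq_true, Bool.and_eq_true, Nat.beq_eq] at h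
  omega

theorem gg_rel : CoxRel gg where
  sq := gg_sq
  braid x y h := by
    obtain ⟨hx, hy, hne⟩ := adj_small h
    have e := pair_word hx hy hne
    rw [if_pos h] at e
    simp only [word, List.map_cons, List.map_nil, List.prod_cons, List.prod_nil, mul_one] at e
    have e' := congrArg (fun z => z * (gg y * (gg x * gg y))) e
    simp only [mul_assoc, one_mul, gg_sq, mul_one, ← mul_assoc (gg x) (gg x), ← mul_assoc (gg y) (gg y)] at e'
    exact e'
  comm x y h := by
    rcases Nat.lt_or_ge x 10 with hx | hx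
    swap
    · rw [gg_big hx, one_mul, mul_one]
    rcases Nat.lt_or_ge y 10 with hy | hy
    swap
    · rw [gg_big hy, one_mul, mul_one]
    by_cases hne : x = y
    · rw [hne]
    have e := pair_word hx hy hne
    rw [if_neg (by rw [h]; simp)] at e
    simp only [word, List.map_cons, List.map_nil, List.prod_cons, List.prod_nil, mul_one] at e
    have e' := congrArg (fun z => z * (gg y * gg x)) e
    simp only [mul_assoc, one_mul, gg_sq, mul_one, ← mul_assoc (gg x) (gg x), ← mul_assoc (gg y) (gg y)] at e'
    exact e'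

theorem word_coxSeven : word coxSeven = 1 := by
  refine relWord_one nodes (List.mem_append_right _ ?_)
  rw [extra_words]; simp

theorem word_spider : word spider = 1 := by
  refine relWord_one nodes (List.mem_append_right _ ?_)
  rw [extra_words]; simp

theorem word_orth : word orthWord = 1 := by
  have h : word (coxSeven ++ orthWord) = 1 := prod_eq_one gg_rel seven_red
  rwa [word_append, word_coxSeven, one_mul] at h

/-- The conjugating word of a reflection. -/
def refW (e : List ℕ × ℕ) : List ℕ := e.1 ++ gw e.2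

theorem refW_spec {e : List ℕ × ℕ} (he : e.2 < 10) : word (refW e) * zz * (word (refW e))⁻¹ = word (palOf e) := by
  rw [refW, palOf, word_append, word_append, word_append, word_reverse, word_singleton, ← gw_spec he]
  group

section Ext

variable {E : Type*} [Group E] (σ : E →* G) (hs : Function.Surjective σ) (hk : σ.ker ≤ Subgroup.center E)

include hk in
theorem central {x : E} (hx : σ x = 1) (y : E) : y * x = x * y :=
  Subgroup.mem_center_iff.1 (hk (MonoidHom.mem_ker.2 hx)) y

include hs hk in
theorem stab_comm {B : E} (hB : σ B = zz) {e : E} (he : σ e ∈ hSub) : e * B = B * e := by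
  let f : hSub → Subgroup.center E := fun h =>
    ⟨Function.surjInv hs h * B * (Function.surjInv hs h)⁻¹ * B⁻¹, hk (MonoidHom.mem_ker.2 (by
      rw [map_mul, map_mul, map_mul, map_inv, map_inv, hB, Function.surjInv_eq hs, zz_comm h.2, mul_inv_cancel_right,
        mul_inv_cancel]))⟩
  have hf : ∀ (h : hSub) (d : E), σ d = h → d * B * d⁻¹ * B⁻¹ = (f h : E) := fun h d hd => by
    have hc : σ ((Function.surjInv hs h)⁻¹ * d) = 1 := by
      rw [map_mul, map_inv, hd, Function.surjInv_eq hs, inv_mul_cancel]
    show _ = Function.surjInv hs h * B * (Function.surjInv hs h)⁻¹ * B⁻¹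
    set c := (Function.surjInv hs h)⁻¹ * d
    rw [show d = Function.surjInv hs h * c by simp only [c]; group]
    have := central σ hk hc B
    calc Function.surjInv hs h * c * B * (Function.surjInv hs h * c)⁻¹ * B⁻¹
        = Function.surjInv hs h * (c * B) * c⁻¹ * (Function.surjInv hs h)⁻¹ * B⁻¹ := by group
      _ = _ := by rw [← this]; group
  have hcc : ∀ a b : Subgroup.center E, a * b = b * a := fun a b => Subtype.ext (Subgroup.mem_center_iff.1 b.2 a)
  have hmul : ∀ h k, f (h * k) = f h * f k := fun h k => by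
    refine Subtype.ext ?_
    rw [← hf (h * k) (Function.surjInv hs h * Function.surjInv hs k) (by
      rw [map_mul, Function.surjInv_eq hs, Function.surjInv_eq hs]; rfl), hcc (f h) (f k)]
    show _ = (f k : E) * (f h : E)
    have hc := Subgroup.mem_center_iff.1 (f k).2 (Function.surjInv hs h)
    calc Function.surjInv hs h * Function.surjInv hs k * B * (Function.surjInv hs h * Function.surjInv hs k)⁻¹ * B⁻¹
        = Function.surjInv hs h * (f k : E) * B * (Function.surjInv hs h)⁻¹ * B⁻¹ := by simp only [f]; group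
      _ = _ := by rw [hc]; simp only [f]; group
  let φ : hSub →* Subgroup.center E := MonoidHom.mk' f hmul
  have hu := hom_trivial (K := hSub) (fun x hx => gg_mem_h hx) φ (u := φ ⟨gg 0, gg_mem_h (by decide)⟩) fun x hx => by
    obtain ⟨c, hc, e⟩ := gg_conj_in hSub (fun y hy => gg_mem_h hy) hx
    rw [show (⟨gg x, gg_mem_h hx⟩ : hSub) = ⟨c, hc⟩ * ⟨gg 0, gg_mem_h (by decide)⟩ * (⟨c, hc⟩ : hSub)⁻¹ from
      Subtype.ext e, map_mul, map_mul, map_inv, hcc (φ ⟨c, hc⟩), mul_inv_cancel_right]
  have hker : φ.ker = ⊤ := by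
    have hle : (⊤ : Subgroup hSub) ≤ φ.ker := by
      rw [← Subgroup.map_le_map_iff_of_injective hSub.subtype_injective, ← MonoidHom.range_eq_map,
        Subgroup.range_subtype]
      refine (Subgroup.closure_le _).2 ?_
      rintro _ ⟨x, hx, rfl⟩
      refine ⟨⟨gg x, gg_mem_h hx⟩, ?_, rfl⟩
      obtain ⟨c, hc, e⟩ := gg_conj_in hSub (fun y hy => gg_mem_h hy) hx
      rw [SetLike.mem_coe, MonoidHom.mem_ker, show (⟨gg x, gg_mem_h hx⟩ : hSub) =
        ⟨c, hc⟩ * ⟨gg 0, gg_mem_h (by decide)⟩ * (⟨c, hc⟩ : hSub)⁻¹ from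
        Subtype.ext e, map_mul, map_mul, map_inv, hu, mul_one, mul_inv_cancel]
    exact eq_top_iff.2 hle
  have h1 : φ ⟨σ e, he⟩ = 1 := MonoidHom.mem_ker.1 (hker ▸ Subgroup.mem_top _)
  have h2 := hf ⟨σ e, he⟩ e rfl
  rw [show (f ⟨σ e, he⟩ : E) = ((φ ⟨σ e, he⟩ : Subgroup.center E) : E) from rfl, h1, OneMemClass.coe_one,
    mul_inv_eq_one, mul_inv_eq_iff_eq_mul] at h2
  exact h2

variable {B : E} (hB : σ B = zz)

include hs hk hB in
theorem conj_eq {e d : E} (h : σ e * zz * (σ e)⁻¹ = σ d * zz * (σ d)⁻¹) : e * B * e⁻¹ = d * B * d⁻¹ := by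
  have hm : σ (d⁻¹ * e) ∈ hSub := by
    rw [← centralizer_zz, Subgroup.mem_centralizer_singleton_iff, map_mul, map_inv]
    calc (σ d)⁻¹ * σ e * zz = (σ d)⁻¹ * (σ e * zz * (σ e)⁻¹) * σ e := by group
      _ = _ := by rw [h]; group
  have := stab_comm σ hs hk hB hm
  calc e * B * e⁻¹ = d * (d⁻¹ * e * B) * (d⁻¹ * e)⁻¹ * d⁻¹ := by group
    _ = _ := by rw [this]; group

include hs hk hB in
theorem conj_comm {e d : E} (h : σ d * (σ e * zz * (σ e)⁻¹) = σ e * zz * (σ e)⁻¹ * σ d) :
    d * (e * B * e⁻¹) = e * B * e⁻¹ * d := by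
  have := conj_eq σ hs hk hB (e := d * e) (d := e) (by
    rw [map_mul]
    calc σ d * σ e * zz * (σ d * σ e)⁻¹ = σ d * (σ e * zz * (σ e)⁻¹) * (σ d)⁻¹ := by group
      _ = _ := by rw [h, mul_inv_cancel_right])
  calc d * (e * B * e⁻¹) = (d * e * B * (d * e)⁻¹) * d := by group
    _ = _ := by rw [this]

end Ext

theorem prod_pow_two {E : Type*} [Group E] {z : E} :
    ∀ l : List E, (∀ a ∈ l, a * a = z) → (∀ a ∈ l, ∀ b ∈ l, a * b = b * a) → l.prod * l.prod = z ^ l.length
  | [], _, _ => by simp
  | a :: l, hsq, hc => by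
    have ih := prod_pow_two l (fun b hb => hsq b (List.mem_cons_of_mem _ hb))
      fun b hb c hc' => hc b (List.mem_cons_of_mem _ hb) c (List.mem_cons_of_mem _ hc')
    have hcl : Commute a l.prod := Commute.list_prod_right _ _ fun b hb => hc a List.mem_cons_self b (List.mem_cons_of_mem _ hb)
    rw [List.prod_cons, List.length_cons, pow_succ', ← ih, ← hsq a List.mem_cons_self]
    calc a * l.prod * (a * l.prod) = a * (l.prod * a) * l.prod := by simp only [mul_assoc]
      _ = _ := by rw [← hcl.eq]; simp only [mul_assoc]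

theorem palOf_flat {M : Type*} [Monoid M] (β : ℕ → M) (l : List ℕ) (T : ℕ → List ℕ × ℕ) :
    ((l.flatMap fun i => palOf (T i)).map β).prod = (l.map fun i => ((palOf (T i)).map β).prod).prod := by
  induction l with
  | nil => simp
  | cons i l ih => rw [List.flatMap_cons, List.map_append, List.prod_append, ih, List.map_cons, List.prod_cons]

theorem orth_letter {i : ℕ} (hi : i < 7) : (orth.getD i ([], 0)).2 < 10 := by
  have hl := orth_len.1
  rw [List.getD_eq_getElem _ _ (by omega)]
  simpa using List.all_eq_true.1 orth_len.2.2.2.2.1 _ (List.getElem_mem (show i < orth.length by omega))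

theorem orth_range : orth = (List.range 7).map fun i => orth.getD i ([], 0) := by decide +kernel

theorem orth_pair {i j : ℕ} (hi : i < 7) (hj : j < 7) :
    word (palOf (orth.getD i ([], 0))) * word (palOf (orth.getD j ([], 0))) =
      word (palOf (orth.getD j ([], 0))) * word (palOf (orth.getD i ([], 0))) := by
  have key : ∀ i j, i < 7 → j < 7 → i < j → word (palOf (orth.getD i ([], 0))) * word (palOf (orth.getD j ([], 0))) =
      word (palOf (orth.getD j ([], 0))) * word (palOf (orth.getD i ([], 0))) := by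
    intro i j hi hj hij
    have h := List.all_eq_true.1 (List.all_eq_true.1 orth_comm i (List.mem_range.2 hi)) j (List.mem_range.2 hj)
    rw [show Nat.blt i j = true by rw [Nat.blt_eq]; exact hij, Bool.not_true, Bool.false_or, List.any_eq_true] at h
    obtain ⟨e, -, h⟩ := h
    have e1 := prod_eq_one gg_rel (Bool.and_eq_true_iff.1 h).2
    rw [List.map_append, List.map_append, List.map_append, List.prod_append, List.prod_append, List.prod_append] at e1
    have e2 : ∀ k, (word (palOf (orth.getD k ([], 0))))⁻¹ = word (palOf (orth.getD k ([], 0))) := fun k => by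
      rw [← word_reverse]
      congr 2
      simp [palOf]
    have e3 := eq_inv_of_mul_eq_one_left (show word (palOf (orth.getD i ([], 0))) * word (palOf (orth.getD j ([], 0))) *
      (word (palOf (orth.getD i ([], 0))) * word (palOf (orth.getD j ([], 0)))) = 1 by rw [← e1]; group)
    rw [mul_inv_rev, e2, e2] at e3
    exact e3
  rcases Nat.lt_trichotomy i j with h | rfl | h
  · exact key i j hi hj h
  · rfl
  · exact (key j i hj hi h).symm

theorem flip_conj {i : ℕ} (hi : i < 6) :
    word flipW * (word (refW (hexa.getD i ([], 0))) * zz * (word (refW (hexa.getD i ([], 0))))⁻¹) * (word flipW)⁻¹ =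
      word (refW (hexa.getD (sig.getD i 0) ([], 0))) * zz * (word (refW (hexa.getD (sig.getD i 0) ([], 0))))⁻¹ := by
  set a := word (refW (hexa.getD i ([], 0))) with ha
  set b := word (refW (hexa.getD (sig.getD i 0) ([], 0))) with hb
  have h := flip_ok i hi
  unfold flipOK at h
  have hm := act_maps h
  rw [word_append, word_append, word_reverse] at hm
  have hh : b⁻¹ * (word flipW * a) ∈ hSub := mem_h_iff.2 hm
  calc word flipW * (a * zz * a⁻¹) * (word flipW)⁻¹
      = b * (b⁻¹ * (word flipW * a) * zz * (b⁻¹ * (word flipW * a))⁻¹) * b⁻¹ := by group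
    _ = b * zz * b⁻¹ := by rw [zz_comm hh, mul_inv_cancel_right]

theorem label_eq (x y : Spor.Fi23.Gen) : Spor.coxLabel Spor.Fi23.edges x y =
    if x = y then 1 else if adj (gens.idxOf x) (gens.idxOf y) then 3 else 2 := by
  cases x <;> cases y <;> decide

/-- Every central extension of Fi23 inside its derived subgroup is trivial. -/
theorem ker_eq_bot {E : Type*} [Group E] (σ : E →* G) (hσ : Cfsg.IsStemExtension σ) : σ.ker = ⊥ := by
  classical
  obtain ⟨hs, hk, hcom⟩ := hσ
  set lf := Function.surjInv hs with hlf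
  have hl : ∀ g, σ (lf g) = g := Function.surjInv_eq hs
  set B₀ := lf zz
  have hB₀ : σ B₀ = zz := hl _
  set z := B₀ * B₀ with hz
  have hz1 : σ z = 1 := by rw [hz, map_mul, hB₀, zz_sq]
  set c : ℕ → E := fun i => lf (word (refW (orth.getD i ([], 0)))) with hc
  set θ := ((List.range 7).map fun i => c i * B₀ * (c i)⁻¹).prod with hθ
  have hθ1 : σ θ = 1 := by
    have e0 : word orthWord = ((List.range 7).map fun i => word (palOf (orth.getD i ([], 0)))).prod := by
      rw [orthWord, orth_range, List.flatMap_map]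
      exact palOf_flat gg _ _
    rw [hθ, map_list_prod, List.map_map, ← word_orth, e0]
    congr 1
    refine List.map_congr_left fun i hi => ?_
    rw [Function.comp_apply, map_mul, map_mul, map_inv, hc, hl, hB₀, refW_spec (orth_letter (List.mem_range.1 hi))]
  have hθθ : θ * θ = z ^ 7 := by
    rw [hθ, prod_pow_two (z := z)]
    · simp
    · intro a ha
      obtain ⟨i, -, rfl⟩ := List.mem_map.1 ha
      calc c i * B₀ * (c i)⁻¹ * (c i * B₀ * (c i)⁻¹) = c i * z * (c i)⁻¹ := by rw [hz]; group
        _ = z := by rw [central σ hk hz1, mul_inv_cancel_right]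
    · intro a ha b hb
      obtain ⟨i, hi, rfl⟩ := List.mem_map.1 ha
      obtain ⟨j, hj, rfl⟩ := List.mem_map.1 hb
      refine conj_comm σ hs hk hB₀ ?_
      rw [map_mul, map_mul, map_inv, hB₀, hc, hl, hl, refW_spec (orth_letter (List.mem_range.1 hi)),
        refW_spec (orth_letter (List.mem_range.1 hj))]
      exact orth_pair (List.mem_range.1 hi) (List.mem_range.1 hj)
  set ζ := θ⁻¹ * z ^ 3 with hζ
  have hζ1 : σ ζ = 1 := by rw [hζ, map_mul, map_inv, map_pow, hθ1, hz1, inv_one, one_pow, one_mul]
  have hzθ : Commute z θ := (central σ hk hz1 θ).symm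
  set B := B₀ * ζ with hBdef
  have hB : σ B = zz := by rw [hBdef, map_mul, hB₀, hζ1, mul_one]
  have hζζ : ζ * ζ = z⁻¹ := by
    rw [hζ, show θ⁻¹ * z ^ 3 * (θ⁻¹ * z ^ 3) = (θ * θ)⁻¹ * (z ^ 3 * z ^ 3) by
      rw [mul_inv_rev]
      calc θ⁻¹ * z ^ 3 * (θ⁻¹ * z ^ 3) = θ⁻¹ * (z ^ 3 * θ⁻¹) * z ^ 3 := by simp only [mul_assoc]
        _ = _ := by rw [((hzθ.inv_right).pow_left 3).eq]; simp only [mul_assoc], hθθ, ← pow_add]
    group
  have hBsq : B * B = 1 := by
    rw [hBdef, show B₀ * ζ * (B₀ * ζ) = B₀ * (ζ * B₀) * ζ by group, ← central σ hk hζ1 B₀,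
      show B₀ * (B₀ * ζ) * ζ = z * (ζ * ζ) by rw [hz]; group, hζζ, mul_inv_cancel]
  set β : ℕ → E := fun x => if x < 10 then lf (word (gw x)) * B * (lf (word (gw x)))⁻¹ else 1 with hβ
  have hβσ : ∀ x, σ (β x) = gg x := fun x => by
    rcases Nat.lt_or_ge x 10 with hx | hx
    · simp only [hβ, if_pos hx, map_mul, map_inv, hl, hB, gw_spec hx]
    · simp only [hβ, if_neg (Nat.not_lt.2 hx), map_one, gg_big hx]
  have hrel : CoxRel β := by
    refine ⟨fun x => ?_, fun x y h => ?_, fun x y h => ?_⟩
    · rcases Nat.lt_or_ge x 10 with hx | hx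
      · simp only [hβ, if_pos hx]
        calc lf (word (gw x)) * B * (lf (word (gw x)))⁻¹ * (lf (word (gw x)) * B * (lf (word (gw x)))⁻¹)
            = lf (word (gw x)) * (B * B) * (lf (word (gw x)))⁻¹ := by group
          _ = 1 := by rw [hBsq, mul_one, mul_inv_cancel]
      · simp only [hβ, if_neg (Nat.not_lt.2 hx), mul_one]
    · obtain ⟨hx, hy, -⟩ := adj_small h
      have hby : ∀ u, u < 10 → β u * β u = 1 := fun u hu => by
        simp only [hβ, if_pos hu]
        calc _ = lf (word (gw u)) * (B * B) * (lf (word (gw u)))⁻¹ := by group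
          _ = 1 := by rw [hBsq, mul_one, mul_inv_cancel]
      have e := conj_eq σ hs hk hB (e := β x * β y * lf (word (gw x))) (d := lf (word (gw y))) (by
        rw [map_mul, map_mul, hβσ, hβσ, hl, hl, gw_spec hy]
        calc gg x * gg y * word (gw x) * zz * (gg x * gg y * word (gw x))⁻¹
            = gg x * gg y * (word (gw x) * zz * (word (gw x))⁻¹) * ((gg y)⁻¹ * (gg x)⁻¹) := by group
          _ = gg x * (gg y * gg x) * ((gg y)⁻¹ * (gg x)⁻¹) := by rw [gw_spec hx]; group
          _ = gg y := by rw [gg_rel.braid x y h]; group)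
      have e' : β x * β y * β x * (β x * β y)⁻¹ = β y := by
        conv_rhs => rw [show β y = lf (word (gw y)) * B * (lf (word (gw y)))⁻¹ from if_pos hy, ← e]
        rw [show β x * β y * β x * (β x * β y)⁻¹ = β x * β y * (lf (word (gw x)) * B * (lf (word (gw x)))⁻¹) *
          (β x * β y)⁻¹ by rw [← show β x = lf (word (gw x)) * B * (lf (word (gw x)))⁻¹ from if_pos hx]]
        group
      calc β x * (β y * β x) = β x * β y * β x * (β x * β y)⁻¹ * (β x * β y) := by group
        _ = _ := by rw [e']
    · rcases Nat.lt_or_ge x 10 with hx | hx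
      swap
      · simp only [hβ, if_neg (Nat.not_lt.2 hx), one_mul, mul_one]
      rcases Nat.lt_or_ge y 10 with hy | hy
      swap
      · simp only [hβ, if_neg (Nat.not_lt.2 hy), one_mul, mul_one]
      rw [show β y = lf (word (gw y)) * B * (lf (word (gw y)))⁻¹ from if_pos hy]
      exact conj_comm σ hs hk hB (by rw [hβσ, hl, gw_spec hy]; exact gg_rel.comm x y h)
  have hβw : ∀ w : List ℕ, σ (w.map β).prod = word w := fun w => by
    rw [map_list_prod, List.map_map]
    exact congrArg List.prod (List.map_congr_left fun x _ => hβσ x)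
  have hrev : ∀ w : List ℕ, (w.reverse.map β).prod = ((w.map β).prod)⁻¹ := fun w =>
    prod_reverse_eq_inv β hrel.sq w
  have hpal : ∀ e : List ℕ × ℕ, e.2 < 10 → ∀ d : E, σ d = word (refW e) → ((palOf e).map β).prod = d * B * d⁻¹ := by
    intro e he d hd
    rw [palOf, List.map_append, List.map_append, List.prod_append, List.prod_append, hrev, List.map_singleton,
      List.prod_singleton, show β e.2 = lf (word (gw e.2)) * B * (lf (word (gw e.2)))⁻¹ from if_pos he]
    rw [← conj_eq σ hs hk hB (e := (e.1.map β).prod * lf (word (gw e.2))) (d := d) (by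
      rw [map_mul, hβw, hl, hd, refW, word_append])]
    group
  have horth : (orthWord.map β).prod = 1 := by
    rw [orthWord, orth_range, List.flatMap_map, palOf_flat]
    have e : (List.range 7).map (fun i => ((palOf (orth.getD i ([], 0))).map β).prod) =
        (List.range 7).map fun i => c i * B₀ * (c i)⁻¹ * ζ := List.map_congr_left fun i hi => by
      rw [hpal _ (orth_letter (List.mem_range.1 hi)) (c i) (hl _), hBdef,
        show c i * (B₀ * ζ) * (c i)⁻¹ = c i * B₀ * (ζ * (c i)⁻¹) by group, ← central σ hk hζ1 ((c i)⁻¹), ← mul_assoc]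
    rw [e]
    have key : ∀ l : List ℕ, (l.map fun i => c i * B₀ * (c i)⁻¹ * ζ).prod =
        (l.map fun i => c i * B₀ * (c i)⁻¹).prod * ζ ^ l.length := by
      intro l
      induction l with
      | nil => simp
      | cons i l ih =>
        simp only [List.map_cons, List.prod_cons, ih, List.length_cons, pow_succ']
        rw [mul_assoc _ ζ, ← mul_assoc ζ, ← central σ hk hζ1]
        simp only [mul_assoc]
    rw [key, ← hθ, List.length_range, show ζ ^ 7 = ((ζ * ζ) ^ 3) * ζ by rw [← pow_two, ← pow_mul, ← pow_succ],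
      hζζ, hζ]
    have : θ * ((z⁻¹) ^ 3 * (θ⁻¹ * z ^ 3)) = 1 := by
      rw [← mul_assoc ((z⁻¹) ^ 3), ((hzθ.inv_left).inv_right.pow_left 3).eq]
      group
    exact this
  have hseven : (coxSeven.map β).prod = 1 := by
    have h := prod_eq_one hrel seven_red
    rwa [List.map_append, List.prod_append, horth, mul_one] at h
  set w := (spider.map β).prod with hw
  have hw1 : σ w = 1 := by rw [hw, hβw, word_spider]
  have hwc : ∀ y, y * w * y⁻¹ = w := fun y => by rw [central σ hk hw1, mul_inv_cancel_right]
  have hwc' : ∀ y, y * w⁻¹ * y⁻¹ = w⁻¹ := fun y => by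
    rw [show y * w⁻¹ * y⁻¹ = (y * w * y⁻¹)⁻¹ by group, hwc]
  have hcube : w * w * w = 1 := by
    have h := prod_eq_one hrel cube_red
    simp only [List.map_append, List.prod_append, hrev, ← hw, hwc] at h
    exact h
  have hR : ((hexOf hexWord).map β).prod = w := by
    have h := prod_eq_one hrel hex_red
    simp only [List.map_append, List.prod_append, hrev, ← hw, hwc'] at h
    exact mul_inv_eq_one.1 h
  have hR' : ((hexOf (hexWord.map fun i => sig.getD i 0)).map β).prod = w⁻¹ := by
    have h := prod_eq_one hrel flip_red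
    simp only [List.map_append, List.prod_append, hrev, ← hw, hwc] at h
    exact eq_inv_of_mul_eq_one_left h
  have hinv : w⁻¹ = w := by
    rw [← hR']
    conv_rhs => rw [← hwc (lf (word flipW)), ← hR]
    simp only [hexOf, palOf_flat, List.map_map]
    rw [← MulAut.conj_apply, map_list_prod, List.map_map]
    refine congrArg List.prod (List.map_congr_left fun i hi => ?_)
    have hi6 : i < 6 := by simpa using List.all_eq_true.1 orth_len.2.2.2.1 i hi
    have hj : sig.getD i 0 < 6 := by
      rw [List.getD_eq_getElem _ _ (orth_len.2.2.1.symm ▸ hi6)]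
      simpa using List.all_eq_true.1 orth_len.2.2.2.2.2.2 _ (List.getElem_mem (orth_len.2.2.1.symm ▸ hi6))
    have hlt : ∀ k, k < 6 → (hexa.getD k ([], 0)).2 < 10 := fun k hk6 => by
      rw [List.getD_eq_getElem _ _ (orth_len.2.1.symm ▸ hk6)]
      simpa using List.all_eq_true.1 orth_len.2.2.2.2.2.1 _ (List.getElem_mem (orth_len.2.1.symm ▸ hk6))
    simp only [Function.comp_apply, MulAut.conj_apply]
    rw [hpal _ (hlt i hi6) _ (hl _), hpal _ (hlt _ hj) _ (hl _)]
    rw [conj_eq σ hs hk hB (e := lf (word (refW (hexa.getD (sig.getD i 0) ([], 0)))))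
      (d := lf (word flipW) * lf (word (refW (hexa.getD i ([], 0))))) (by
        rw [hl, map_mul, hl, hl, ← flip_conj hi6]; group)]
    group
  have hwone : w = 1 := by
    calc w = w⁻¹ := hinv.symm
      _ = w⁻¹ * (w * w * w) := by rw [hcube, mul_one]
      _ = w * w := by group
      _ = w * w⁻¹ := by rw [hinv]
      _ = 1 := mul_inv_cancel w
  let s : G →* E := PresentedGroup.toGroup (f := fun y => β (gens.idxOf y)) (by
    rintro r (⟨x, -, y, -, rfl⟩ | hr)
    · rw [map_pow, map_mul, FreeGroup.lift_apply_of, FreeGroup.lift_apply_of, label_eq]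
      split_ifs with h1 h2
      · rw [pow_one, h1, hrel.sq]
      · rw [show (3 : ℕ) = 1 + 1 + 1 from rfl, pow_succ, pow_succ, pow_one]
        calc β (gens.idxOf x) * β (gens.idxOf y) * (β (gens.idxOf x) * β (gens.idxOf y)) *
              (β (gens.idxOf x) * β (gens.idxOf y))
            = β (gens.idxOf x) * (β (gens.idxOf y) * β (gens.idxOf x)) *
              (β (gens.idxOf y) * (β (gens.idxOf x) * β (gens.idxOf y))) := by group
          _ = β (gens.idxOf x) * (β (gens.idxOf y) * β (gens.idxOf x)) *
              (β (gens.idxOf x) * (β (gens.idxOf y) * β (gens.idxOf x))) := by rw [← hrel.braid _ _ h2]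
          _ = 1 := by
            simp only [mul_assoc, ← mul_assoc (β (gens.idxOf x)) (β (gens.idxOf x)),
              ← mul_assoc (β (gens.idxOf y)) (β (gens.idxOf y)), hrel.sq, one_mul, mul_one]
      · rw [pow_two, hrel.comm _ _ (Bool.eq_false_iff.2 h2)]
        calc β (gens.idxOf y) * β (gens.idxOf x) * (β (gens.idxOf y) * β (gens.idxOf x))
            = β (gens.idxOf y) * β (gens.idxOf x) * (β (gens.idxOf x) * β (gens.idxOf y)) := by
              rw [hrel.comm _ _ (Bool.eq_false_iff.2 h2)]
          _ = 1 := by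
            simp only [mul_assoc, ← mul_assoc (β (gens.idxOf x)) (β (gens.idxOf x)), hrel.sq, one_mul]
    · rw [hom_eq_prod gens _ β (fun y => FreeGroup.lift_apply_of) hrel.sq]
      have hm : letters gens r ∈ Spor.Fi23.extra.map (letters gens) := List.mem_map.2 ⟨r, hr, rfl⟩
      rw [extra_words] at hm
      simp only [List.mem_cons, List.not_mem_nil, or_false] at hm
      rcases hm with e | e <;> rw [e]
      · exact hwone
      · exact hseven)
  have hsec : ∀ g, σ (s g) = g := by
    have : σ.comp s = MonoidHom.id G := PresentedGroup.ext fun y => by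
      show σ (s (PresentedGroup.of y)) = PresentedGroup.of y
      rw [PresentedGroup.toGroup.of, hβσ]
      exact gen_of nodes y
    exact fun g => DFunLike.congr_fun this g
  have hle : commutator E ≤ s.range := by
    rw [commutator_def, Subgroup.commutator_le]
    intro a _ b _
    refine ⟨⁅σ a, σ b⁆, ?_⟩
    have hd : ∀ a : E, σ ((s (σ a))⁻¹ * a) = 1 := fun a => by rw [map_mul, map_inv, hsec, inv_mul_cancel]
    have key : ∀ u v p q : E, σ p = 1 → σ q = 1 → ⁅u * p, v * q⁆ = ⁅u, v⁆ := fun u v p q hp hq => by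
      simp only [commutatorElement_def]
      calc u * p * (v * q) * (u * p)⁻¹ * (v * q)⁻¹ = u * (p * v) * q * p⁻¹ * u⁻¹ * q⁻¹ * v⁻¹ := by group
        _ = u * (v * p) * q * p⁻¹ * u⁻¹ * q⁻¹ * v⁻¹ := by rw [central σ hk hp v]
        _ = u * v * (p * q) * p⁻¹ * u⁻¹ * q⁻¹ * v⁻¹ := by group
        _ = u * v * (q * p) * p⁻¹ * u⁻¹ * q⁻¹ * v⁻¹ := by rw [central σ hk hq p]
        _ = u * v * (q * u⁻¹) * q⁻¹ * v⁻¹ := by group
        _ = u * v * (u⁻¹ * q) * q⁻¹ * v⁻¹ := by rw [central σ hk hq u⁻¹]
        _ = _ := by group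
    conv_rhs => rw [show a = s (σ a) * ((s (σ a))⁻¹ * a) by group, show b = s (σ b) * ((s (σ b))⁻¹ * b) by group,
      key _ _ _ _ (hd a) (hd b)]
    rw [map_commutatorElement]
  rw [Subgroup.eq_bot_iff_forall]
  intro x hx
  obtain ⟨g, rfl⟩ := hle (hcom hx)
  rw [MonoidHom.mem_ker, hsec] at hx
  rw [hx, map_one]

theorem multiplier_fi23 : Cfsg.HasCyclicSchurMultiplier G 1 := by
  have htriv : ∀ {Γ : Type} [Group Γ] (σ : Γ →* G), Cfsg.IsStemExtension σ → Subsingleton σ.ker := fun σ hσ => by
    rw [ker_eq_bot σ hσ]; infer_instance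
  refine ⟨⟨G, inferInstance, finite_fi23', MonoidHom.id G, ⟨Function.surjective_id, ?_, ?_⟩, ?_⟩, ?_⟩
  · intro x hx; rw [show x = 1 from hx]; exact one_mem _
  · intro x hx; rw [show x = 1 from hx]; exact one_mem _
  · refine ⟨@MulEquiv.ofUnique _ _ ?_ ?_ _ _⟩
    · exact { default := 1, uniq := fun x => Subtype.ext x.2 }
    · exact inferInstance
  · intro Γ _ _ σ hσ
    haveI := htriv σ hσ
    exact ⟨1, fun x => ⟨1, Subsingleton.elim _ _⟩⟩

end CfsgLib.Recog.FiThree.Mult
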