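import Mathlib.Data.Nat.Notation

set_option autoImplicit false
set_option maxRecDepth 20000

/-! Words and rewriting certificates for the Schur multiplier of Fi23 (owner: helper18). -/

namespace CfsgLib.Recog.FiThree.Mult

/-- Seven orthogonal reflections: conjugating word and letter. -/
def orth : List (List ℕ × ℕ) :=
  [([], 0), ([], 2), ([], 4), ([], 7), ([3, 7, 4, 3], 2), ([1, 2, 3, 7, 4, 3, 2, 1], 0), ([5, 4, 3, 7, 2, 3, 4, 1, 2, 3, 7, 5, 4, 3, 2, 1], 0)]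

/-- Six reflections in a cycle. -/
def hexa : List (List ℕ × ℕ) :=
  [([], 1), ([], 2), ([], 3), ([], 4), ([], 5), ([7, 8, 3, 7, 4, 3], 2)]

/-- The reversal of the cycle. -/
def sig : List ℕ :=
  [2, 1, 0, 5, 4, 3]

/-- A translation of the cycle. -/
def hexWord : List ℕ :=
  [5, 0, 1, 2, 3, 4, 5, 0, 1, 2, 3, 4, 5, 0, 1, 2, 3, 4, 5, 0, 1, 2, 3, 4, 5, 0, 1, 2, 3, 4]

/-- Conjugator of the translation. -/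
def conA : List ℕ :=
  [7, 8, 3, 4, 5, 4, 3, 2]

/-- Conjugator of the reversed translation. -/
def conB : List ℕ :=
  [7, 8, 3, 4, 5, 3, 2]

/-- First conjugator. -/
def conC : List ℕ :=
  [8, 7, 5, 2]

/-- Second conjugator. -/
def conD : List ℕ :=
  [3, 4, 2, 3]

/-- An element reversing the cycle. -/
def flipW : List ℕ :=
  [9, 7, 8, 6, 5, 3, 4, 2, 3, 7, 1, 2, 3, 4, 5, 6, 9, 1, 2, 3, 4, 5, 6, 7, 1, 2, 3, 4, 5, 6, 7, 1, 2, 3, 4, 5, 6, 7, 1, 2, 3, 4, 5, 6, 7, 1, 2, 3, 4, 5, 6, 7, 1, 2, 3, 4, 5, 6, 7, 1,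
  2, 3, 4, 5, 6, 7, 1, 2, 3, 4, 5, 6, 7, 1, 2, 3, 4, 5, 6, 7, 9, 6, 5, 4, 3, 2, 1, 7, 3, 2, 4, 3, 5, 6, 8, 7, 9, 9, 7, 8, 6, 5, 3, 4, 2, 3, 7, 1, 2, 3, 4, 5, 6, 9, 1, 2, 3, 4, 5, 6,
  7, 1, 2, 3, 4, 5, 6, 7, 1, 2, 3, 4, 5, 6, 7, 1, 2, 3, 4, 5, 6, 7, 1, 2, 3, 4, 5, 6, 7, 1, 2, 3, 4, 5, 6, 7, 1, 2, 3, 4, 5, 6, 7, 1, 2, 3, 4, 5, 6, 7, 1, 2, 3, 4, 5, 6, 7, 9, 6, 5,
  4, 3, 2, 1, 7, 3, 2, 4, 3, 5, 6, 8, 7, 9, 8, 7, 6, 5, 3, 4, 2, 3, 7, 8, 5, 6, 4, 5, 3, 4, 1, 2, 3, 7, 0, 1, 2, 3, 4, 5, 6, 9, 1, 2, 3, 4, 5, 6, 7, 1, 2, 3, 4, 5, 6, 7, 1, 2, 3, 4,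
  5, 6, 7, 1, 2, 3, 4, 5, 6, 7, 1, 2, 3, 4, 5, 6, 7, 1, 2, 3, 4, 5, 6, 7, 1, 2, 3, 4, 5, 6, 7, 1, 2, 3, 4, 5, 6, 7, 1, 2, 3, 4, 5, 6, 7, 9, 6, 5, 4, 3, 2, 1, 0, 7, 3, 2, 1, 4, 3, 5,
  4, 6, 5, 8, 7, 3, 2, 4, 3, 5, 6, 7, 8, 8, 7, 6, 5, 3, 4, 2, 3, 7, 8, 5, 6, 4, 5, 3, 4, 1, 2, 3, 7, 0, 1, 2, 3, 4, 5, 6, 9, 1, 2, 3, 4, 5, 6, 7, 1, 2, 3, 4, 5, 6, 7, 1, 2, 3, 4, 5,
  6, 7, 1, 2, 3, 4, 5, 6, 7, 1, 2, 3, 4, 5, 6, 7, 1, 2, 3, 4, 5, 6, 7, 1, 2, 3, 4, 5, 6, 7, 1, 2, 3, 4, 5, 6, 7, 1, 2, 3, 4, 5, 6, 7, 9, 6, 5, 4, 3, 2, 1, 0, 7, 3, 2, 1, 4, 3, 5, 4,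
  6, 5, 8, 7, 3, 2, 4, 3, 5, 6, 7, 8, 6, 5, 3, 4, 2, 3, 7, 8, 7, 3, 4, 2, 3, 7, 1, 2, 3, 4, 5, 6, 9, 1, 2, 3, 4, 5, 6, 7, 1, 2, 3, 4, 5, 6, 7, 1, 2, 3, 4, 5, 6, 7, 1, 2, 3, 4, 5, 6,
  7, 1, 2, 3, 4, 5, 6, 7, 1, 2, 3, 4, 5, 6, 7, 1, 2, 3, 4, 5, 6, 7, 1, 2, 3, 4, 5, 6, 7, 1, 2, 3, 4, 5, 6, 7, 9, 6, 5, 4, 3, 2, 1, 7, 3, 2, 4, 3, 7, 8, 7, 3, 2, 4, 3, 5, 6, 6, 5, 4,
  1, 2, 3, 7, 8, 7, 3, 4, 2, 3, 7, 1, 2, 3, 4, 5, 6, 9, 1, 2, 3, 4, 5, 6, 7, 1, 2, 3, 4, 5, 6, 7, 1, 2, 3, 4, 5, 6, 7, 1, 2, 3, 4, 5, 6, 7, 1, 2, 3, 4, 5, 6, 7, 1, 2, 3, 4, 5, 6, 7,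
  1, 2, 3, 4, 5, 6, 7, 1, 2, 3, 4, 5, 6, 7, 1, 2, 3, 4, 5, 6, 7, 9, 6, 5, 4, 3, 2, 1, 7, 3, 2, 4, 3, 7, 8, 7, 3, 2, 1, 4, 5, 6]

/-- Moves. -/
def certA : List (List ℕ) :=
  [[], [], [], [], [0], [], [], [2, 0], [], [2, 1, 0], [], [3, 2, 1, 0], [], [2, 1, 0], [0], [], [], [], [3, 12, 11, 10, 9, 7, 6, 4, 2, 1, 0], [3, 2, 1, 0], [6, 5, 4, 3, 1, 0], [],
  [7, 6, 5, 4, 3, 1, 0], [], [], [5, 4, 3, 2, 0], [], [2, 1, 0], [], [3, 2, 1, 0], [], [2, 1, 0], [0], [], [], [], [3, 15, 14, 13, 12, 11, 10, 9, 7, 6, 4, 2, 1, 0], [3, 2, 1, 0], [6,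
  5, 4, 3, 1, 0], [], [7, 6, 5, 4, 3, 1, 0], [], [], [5, 4, 3, 2, 0], [], [2, 1, 0], [], [3, 2, 1, 0], [], [2, 1, 0], [0], [], [], [], [3, 15, 14, 13, 12, 11, 10, 9, 7, 6, 4, 2, 1,
  0], [3, 2, 1, 0], [6, 5, 4, 3, 1, 0], [], [7, 6, 5, 4, 3, 1, 0], [], [], [5, 4, 3, 2, 0], [], [2, 1, 0], [], [3, 2, 1, 0], [], [2, 1, 0], [0], [], [], [], [3, 15, 14, 13, 12, 11,
  10, 9, 7, 6, 4, 2, 1, 0], [3, 2, 1, 0], [6, 5, 4, 3, 1, 0], [], [7, 6, 5, 4, 3, 1, 0], [], [], [5, 4, 3, 2, 0], [], [2, 1, 0], [], [3, 2, 1, 0], [], [2, 1, 0], [0], [], [], [], [3,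
  15, 14, 13, 12, 11, 10, 9, 7, 6, 4, 2, 1, 0], [3, 2, 1, 0], [6, 5, 4, 3, 1, 0], [6, 5, 4, 3, 2, 0], [], [], [], [], [], [], [], [], [], [], [], [], [], [], [], [], [], [], [], [],
  [], [], [], [], [], [], [], [], [], [], [], [], [], [], [], [], [], [], [], [], [], [], [], [], [], [], [], [], [], [], [], [], [], [], [], [], [], [], [], [], [], [], [], [], [],
  [], [], [], [], [], [], [], [], [], [], [], [], [], [], [], [], [], [], [], [], [], [], [], [1, 0], [1, 0], [0], [], [0], [], [], [], [], [], [], [], [], []]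

/-- Moves. -/
def certB : List (List ℕ) :=
  [[], [], [], [], [1, 0], [], [1, 0], [], [2, 1, 0], [], [], [3, 2, 0], [], [4, 2, 1, 0], [], [1, 0], [], [1, 0], [0], [], [], [], [4, 3, 6, 5, 8, 7, 9, 8, 6, 4, 2, 1, 0], [2, 1,
  0], [2, 8, 7, 6, 5, 4, 3, 1, 0], [1, 0], [6, 4, 3, 2, 1, 0], [], [], [1, 4, 3, 5, 4, 2, 0], [], [5, 3, 2, 1, 0], [], [1, 0], [], [1, 0], [0], [], [], [], [4, 3, 6, 5, 9, 8, 7, 10,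
  9, 8, 6, 4, 2, 1, 0], [2, 1, 0], [2, 10, 8, 7, 6, 5, 4, 3, 1, 0], [1, 0], [6, 4, 3, 2, 1, 0], [], [], [1, 4, 3, 5, 4, 2, 0], [], [5, 3, 2, 1, 0], [], [1, 0], [], [1, 0], [0], [],
  [], [], [4, 3, 6, 5, 9, 8, 7, 10, 9, 8, 6, 4, 2, 1, 0], [2, 1, 0], [2, 10, 8, 7, 6, 5, 4, 3, 1, 0], [1, 0], [6, 4, 3, 2, 1, 0], [], [], [1, 4, 3, 5, 4, 2, 0], [], [5, 3, 2, 1, 0],
  [], [1, 0], [], [1, 0], [0], [], [], [], [4, 3, 6, 5, 9, 8, 7, 10, 9, 8, 6, 4, 2, 1, 0], [2, 1, 0], [2, 10, 8, 7, 6, 5, 4, 3, 1, 0], [1, 0], [6, 4, 3, 2, 1, 0], [], [], [1, 4, 3,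
  5, 4, 2, 0], [], [5, 3, 2, 1, 0], [], [], [], [2, 1, 0], [], [], [], [2, 1, 3, 2, 0], [], [], [2, 0], [], [], [], [], [], [], [], [], [], [], [], [], [], [], [], [], [], [], [],
  [], [], [], [], [], [], [], [], [], [], [], [], [], [], [], [], [], [], [], [], [], [], [], [], [], [], [], [], [], [], [], [], [], [], [], [], [], [], [], [], [], [], [], [], [],
  [], [], [], [], [], [], [], [], [], [], [11, 14, 12, 10, 9, 7, 6, 5, 4, 3, 2, 1, 0], [], [], [], [], [], [], [], [], [], [4, 3, 2, 0], [], [3, 2, 1, 0], [], [], [4, 3, 2, 1, 0],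
  [], [], [], [], [], [], []]

/-- Moves. -/
def certC : List (List ℕ) :=
  [[], [], [], [], [], [], [2, 4, 3, 1, 0], [1, 0], [1, 0], [], [], [], [0], [0], [0], [4, 2, 1, 0], [2, 1, 0], [0], [2, 1, 0], [], [2, 1, 3, 2, 0], [], [], [], [4, 3, 1, 0], [1, 0],
  [], [], [], [], [3, 2, 8, 9, 7, 6, 5, 4, 3, 1, 0], [2, 1, 0], [5, 4, 6, 7, 5, 3, 2, 1, 0], [0], [0], [0], [4, 2, 1, 0], [], [3, 2, 1, 4, 3, 2, 0], [], [], [], [3, 1, 0], [1, 0],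
  [0], [1, 0], [1, 0], [1, 0], [7, 6, 5, 3, 2, 1, 0], [], [5, 4, 3, 2, 1, 6, 7, 5, 4, 3, 2, 0], [], [], [], [3, 1, 0], [1, 0], [], [], [], [], [3, 2, 7, 6, 5, 4, 3, 1, 0], [2, 1, 0],
  [5, 4, 6, 7, 5, 3, 2, 1, 0], [0], [0], [0], [4, 2, 1, 0], [], [3, 2, 1, 4, 3, 2, 0], [], [], [], [], [], [], [2, 3, 1, 0], [2, 1, 0], [], [1, 0], [1, 0], [1, 0], [], [], [], [2, 3,
  1, 0], [1, 0], [], [0], [], [], [], [], [], [], [1, 7, 6, 8, 7, 5, 4, 3, 16, 17, 15, 14, 13, 12, 11, 10, 9, 8, 15, 17, 20, 19, 18, 16, 14, 13, 12, 20, 19, 26, 25, 23, 22, 46, 47,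
  45, 44, 43, 42, 41, 40, 39, 38, 45, 47, 49, 48, 46, 44, 43, 42, 50, 49, 56, 55, 53, 52, 71, 70, 69, 76, 74, 72, 71, 70, 68, 67, 66, 65, 64, 63, 61, 60, 58, 57, 55, 54, 53, 51, 50,
  48, 47, 46, 44, 43, 41, 40, 39, 37, 36, 35, 34, 33, 31, 30, 28, 27, 25, 24, 23, 21, 20, 18, 17, 16, 14, 13, 11, 10, 9, 7, 6, 5, 4, 2, 0], [], [], [], [], [], [], [3, 11, 10, 9, 8,
  7, 6, 4, 2, 1, 8, 7, 6, 5, 10, 9, 8, 17, 16, 15, 14, 13, 11, 10, 30, 29, 28, 31, 30, 35, 34, 32, 31, 29, 27, 26, 25, 24, 23, 22, 21, 20, 27, 29, 36, 35, 34, 32, 31, 30, 28, 26, 25,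
  24, 37, 35, 34, 33, 32, 31, 39, 38, 37, 35, 34, 41, 40, 39, 38, 47, 46, 45, 44, 43, 41, 40, 58, 57, 59, 58, 56, 55, 54, 53, 52, 51, 50, 60, 63, 62, 68, 67, 66, 65, 64, 63, 61, 59,
  58, 56, 55, 54, 63, 62, 65, 69, 68, 67, 66, 64, 63, 61, 60, 59, 58, 56, 55, 53, 52, 51, 49, 48, 47, 46, 45, 44, 43, 41, 39, 37, 36, 35, 33, 32, 30, 29, 28, 26, 25, 23, 22, 21, 19,
  18, 17, 16, 15, 14, 13, 11, 9, 7, 6, 4, 3, 2, 0], [], [7, 6, 4, 3, 2, 0], [], [12, 13, 11, 10, 9, 8, 11, 13, 15, 14, 12, 10, 16, 15, 14, 13, 18, 16, 19, 41, 40, 39, 38, 37, 36, 35,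
  34, 42, 43, 41, 40, 39, 38, 41, 43, 45, 44, 42, 40, 46, 45, 44, 43, 48, 46, 49, 68, 67, 66, 65, 64, 63, 62, 70, 68, 67, 66, 65, 71, 70, 68, 67, 72, 71, 73, 77, 76, 75, 78, 77, 76,
  74, 72, 70, 69, 68, 66, 64, 63, 61, 60, 59, 58, 57, 56, 55, 54, 52, 50, 48, 47, 45, 44, 42, 41, 39, 37, 36, 35, 33, 32, 31, 30, 29, 28, 27, 26, 25, 24, 22, 20, 18, 17, 15, 14, 12,
  11, 9, 7, 6, 4, 3, 2, 1, 0], [], [], [15, 14, 13, 12, 16, 15, 17, 16, 14, 13, 11, 10, 9, 8, 19, 17, 16, 14, 13, 11, 10, 20, 19, 18, 17, 22, 20, 19, 23, 43, 42, 44, 43, 41, 40, 39,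
  38, 37, 46, 44, 43, 41, 40, 39, 48, 47, 49, 50, 48, 46, 45, 44, 43, 41, 40, 38, 36, 35, 34, 33, 32, 31, 30, 28, 27, 26, 24, 22, 21, 20, 18, 16, 15, 14, 13, 11, 9, 7, 6, 5, 4, 3, 2,
  1, 0], [3, 2, 0], [], [5, 4, 6, 19, 18, 17, 16, 15, 13, 12, 11, 21, 19, 18, 17, 15, 14, 13, 22, 21, 19, 17, 16, 15, 23, 22, 21, 20, 24, 23, 25, 34, 33, 35, 49, 48, 47, 46, 45, 44,
  42, 41, 50, 51, 49, 48, 47, 46, 44, 43, 53, 52, 51, 49, 48, 46, 45, 44, 42, 40, 39, 38, 36, 34, 32, 31, 30, 29, 28, 26, 24, 22, 21, 19, 18, 17, 16, 14, 12, 10, 9, 7, 5, 3, 2, 1,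
  0], [], [], [], [12, 11, 10, 9, 13, 21, 20, 28, 34, 32, 31, 29, 27, 26, 25, 24, 22, 21, 19, 18, 17, 16, 14, 12, 11, 10, 8, 7, 6, 5, 3, 2, 0], [4, 3, 2, 6, 13, 12, 11, 14, 15, 13,
  12, 10, 9, 8, 7, 5, 9, 8, 17, 28, 29, 27, 26, 25, 24, 23, 22, 21, 20, 19, 18, 16, 19, 27, 29, 32, 31, 30, 28, 26, 25, 24, 32, 31, 33, 32, 30, 29, 28, 26, 25, 23, 22, 21, 20, 18,
  17, 15, 14, 13, 12, 10, 9, 7, 6, 4, 3, 1, 0], [8, 7, 6, 9, 8, 10, 22, 21, 20, 19, 18, 17, 23, 22, 21, 20, 25, 23, 22, 28, 27, 26, 25, 23, 21, 19, 18, 16, 15, 14, 13, 11, 9, 7, 5,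
  4, 3, 2, 1, 0], [1, 7, 6, 9, 10, 8, 7, 5, 4, 3, 10, 9, 8, 16, 15, 17, 22, 21, 20, 19, 18, 16, 14, 13, 12, 32, 31, 30, 29, 28, 27, 32, 31, 34, 33, 35, 36, 34, 32, 30, 29, 28, 26,
  25, 24, 23, 22, 21, 19, 25, 23, 22, 26, 37, 36, 35, 38, 39, 37, 36, 34, 33, 32, 30, 29, 28, 43, 42, 41, 40, 39, 38, 37, 45, 43, 42, 41, 46, 45, 43, 42, 40, 39, 38, 36, 35, 34, 33,
  32, 30, 29, 27, 25, 24, 23, 21, 20, 18, 17, 16, 14, 13, 11, 10, 9, 7, 6, 5, 4, 2, 0], [], [], [], [], [8, 7, 6, 5, 4, 3, 2, 1, 0], [1, 7, 6, 8, 7, 5, 4, 3, 11, 10, 9, 8, 12, 19,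
  17, 16, 14, 13, 11, 10, 9, 7, 6, 5, 4, 2, 0], [], [], [], [], [], [], [4, 2, 1, 10, 9, 8, 7, 6, 5, 11, 10, 12, 11, 9, 8, 7, 6, 4, 3, 2, 0], [], [2, 0], [], [4, 3, 5, 12, 13, 11,
  10, 9, 15, 14, 16, 15, 13, 12, 11, 10, 8, 6, 4, 2, 1, 0], [], [4, 3, 10, 8, 7, 6, 14, 13, 20, 19, 18, 17, 15, 14, 12, 11, 34, 33, 32, 31, 30, 29, 28, 35, 36, 34, 33, 32, 31, 37,
  36, 34, 33, 49, 48, 47, 46, 51, 49, 48, 47, 45, 44, 43, 42, 41, 40, 38, 37, 52, 51, 49, 48, 47, 45, 44, 43, 42, 40, 39, 54, 53, 52, 55, 54, 56, 63, 62, 61, 60, 59, 58, 57, 55, 53,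
  51, 50, 49, 48, 47, 45, 44, 42, 41, 40, 38, 36, 35, 34, 32, 30, 29, 27, 26, 25, 24, 23, 44, 43, 42, 41, 40, 39, 38, 37, 35, 45, 57, 56, 55, 54, 53, 52, 50, 49, 48, 46, 44, 43, 42,
  58, 57, 66, 65, 68, 67, 71, 70, 69, 72, 71, 70, 68, 66, 64, 63, 62, 61, 59, 58, 56, 55, 54, 52, 51, 50, 48, 47, 46, 44, 43, 41, 40, 39, 37, 36, 34, 33, 32, 30, 29, 27, 26, 25, 24,
  22, 21, 20, 19, 18, 17, 15, 14, 12, 10, 9, 8, 7, 5, 4, 2, 1, 0], [13, 12, 11, 14, 13, 15, 16, 14, 12, 10, 9, 8, 7, 6, 10, 12, 18, 17, 19, 18, 16, 15, 14, 13, 11, 9, 8, 7, 5, 4, 3,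
  2, 1, 0], [], [2, 1, 3, 7, 6, 5, 26, 25, 27, 26, 24, 23, 22, 21, 20, 19, 18, 28, 31, 30, 37, 36, 35, 34, 33, 32, 31, 29, 27, 26, 24, 23, 22, 21, 31, 30, 33, 39, 37, 36, 35, 34, 32,
  31, 29, 28, 27, 26, 24, 23, 28, 27, 29, 36, 35, 41, 40, 39, 37, 36, 34, 33, 32, 31, 47, 46, 45, 44, 43, 48, 47, 46, 45, 50, 48, 47, 51, 56, 55, 54, 52, 50, 49, 48, 46, 44, 42, 41,
  40, 39, 38, 37, 42, 41, 44, 43, 46, 45, 54, 53, 58, 57, 55, 54, 52, 51, 50, 49, 48, 47, 46, 44, 42, 40, 39, 38, 36, 35, 34, 33, 32, 30, 28, 26, 25, 24, 22, 20, 19, 17, 16, 15, 14,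
  38, 37, 36, 35, 34, 39, 38, 40, 46, 45, 44, 43, 41, 39, 37, 36, 35, 33, 32, 31, 30, 29, 28, 27, 25, 33, 32, 43, 42, 47, 46, 44, 43, 41, 40, 39, 37, 36, 35, 40, 57, 56, 55, 54, 53,
  52, 50, 59, 58, 61, 60, 67, 65, 64, 63, 62, 61, 59, 57, 56, 55, 54, 52, 51, 49, 48, 47, 63, 64, 62, 65, 73, 71, 70, 69, 68, 67, 66, 64, 63, 61, 60, 59, 57, 56, 54, 53, 52, 51, 49,
  48, 46, 45, 44, 43, 41, 39, 38, 37, 36, 34, 33, 31, 30, 29, 27, 26, 24, 23, 22, 20, 19, 17, 16, 15, 13, 12, 11, 10, 9, 8, 7, 6, 4, 2, 0], [2, 1, 0], [], [], [], [4, 3, 1, 0], [3,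
  4, 2, 1, 0], [3, 2, 1, 0], [1, 0], [6, 5, 7, 8, 6, 4, 3, 2, 19, 18, 17, 20, 21, 19, 18, 16, 15, 14, 13, 12, 11, 9, 23, 22, 21, 19, 18, 16, 15, 14, 13, 11, 10, 8, 7, 6, 4, 3, 1, 14,
  13, 12, 11, 10, 9, 8, 16, 14, 13, 12, 11, 17, 16, 14, 13, 18, 17, 16, 14, 12, 10, 9, 7, 6, 5, 4, 19, 18, 20, 22, 38, 37, 36, 35, 34, 33, 32, 40, 38, 37, 36, 35, 41, 40, 38, 37, 42,
  41, 43, 47, 46, 45, 48, 47, 46, 44, 42, 40, 39, 38, 36, 34, 33, 31, 30, 29, 28, 27, 26, 25, 24, 23, 21, 19, 17, 16, 15, 23, 22, 48, 47, 46, 45, 44, 43, 42, 41, 39, 52, 50, 49, 48,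
  47, 46, 58, 56, 55, 54, 53, 52, 50, 49, 54, 53, 56, 55, 59, 58, 57, 60, 59, 58, 56, 54, 52, 51, 50, 48, 47, 45, 44, 43, 41, 40, 38, 37, 36, 34, 33, 31, 30, 29, 28, 27, 26, 24, 23,
  21, 20, 19, 17, 16, 14, 13, 12, 10, 9, 7, 6, 5, 3, 2, 0], [], [], [10, 11, 9, 8, 7, 6, 12, 11, 9, 8, 24, 23, 22, 21, 26, 24, 23, 22, 20, 19, 18, 17, 16, 15, 13, 12, 27, 26, 24, 23,
  22, 20, 19, 18, 17, 15, 14, 29, 28, 27, 30, 29, 31, 38, 37, 36, 35, 34, 33, 32, 30, 28, 26, 25, 24, 23, 22, 20, 19, 17, 16, 15, 13, 11, 10, 9, 7, 5, 4, 3, 19, 18, 17, 16, 15, 14,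
  13, 12, 10, 20, 32, 31, 30, 29, 28, 27, 25, 24, 23, 21, 19, 18, 17, 33, 32, 41, 40, 43, 42, 46, 45, 44, 47, 46, 45, 43, 41, 39, 38, 37, 36, 34, 33, 31, 30, 29, 27, 26, 25, 23, 22,
  21, 19, 18, 16, 15, 14, 12, 11, 9, 8, 7, 5, 4, 2, 1, 0], [10, 9, 8, 7, 6, 5, 4, 3, 2, 1, 0], [1, 0], [6, 5, 14, 12, 11, 10, 9, 7, 6, 4, 3, 2, 4, 11, 10, 16, 15, 14, 12, 11, 9, 8,
  7, 6, 22, 21, 20, 19, 18, 23, 22, 21, 20, 25, 23, 22, 26, 31, 30, 29, 27, 25, 24, 23, 21, 19, 17, 16, 15, 14, 13, 12, 17, 16, 19, 18, 21, 20, 29, 28, 33, 32, 30, 29, 27, 26, 25,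
  24, 23, 22, 21, 19, 17, 15, 14, 13, 11, 10, 9, 8, 7, 5, 3, 1, 13, 12, 11, 10, 9, 14, 13, 15, 21, 20, 19, 18, 16, 14, 12, 11, 10, 8, 7, 6, 5, 4, 8, 7, 18, 17, 22, 21, 19, 18, 16,
  15, 14, 12, 11, 10, 15, 32, 31, 30, 29, 28, 27, 25, 34, 33, 36, 35, 42, 40, 39, 38, 37, 36, 34, 32, 31, 30, 29, 27, 26, 24, 23, 22, 38, 39, 37, 40, 48, 46, 45, 44, 43, 42, 41, 39,
  38, 36, 35, 34, 32, 31, 29, 28, 27, 26, 24, 23, 21, 20, 19, 18, 16, 14, 13, 12, 11, 9, 8, 6, 5, 3, 2, 0], [], [], [], [], [], [1, 8, 7, 6, 5, 4, 3, 2, 0], [], [], [1, 3, 17, 16,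
  15, 14, 13, 12, 11, 10, 8, 21, 19, 18, 17, 16, 15, 27, 25, 24, 23, 22, 21, 19, 18, 23, 22, 25, 24, 28, 27, 26, 29, 28, 27, 25, 23, 21, 20, 19, 17, 16, 14, 13, 12, 10, 9, 7, 6, 5,
  4, 2, 0], [4, 3, 5, 12, 11, 13, 17, 16, 15, 18, 17, 16, 14, 12, 10, 9, 8, 6, 4, 2, 1, 0], [], [6, 5, 4, 3, 12, 11, 10, 9, 7, 6, 14, 13, 17, 16, 15, 18, 17, 16, 14, 12, 11, 9, 8, 7,
  5, 4, 2, 1, 0], [6, 5, 4, 3, 2, 1, 0], [], [2, 1, 4, 3, 11, 9, 8, 7, 6, 5, 19, 17, 16, 15, 14, 13, 11, 10, 9, 8, 7, 6, 4, 2, 0], [6, 5, 4, 7, 6, 14, 12, 11, 10, 8, 7, 5, 3, 2, 1,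
  0], [], [], [], [1, 4, 3, 2, 0], [0], [2, 5, 3, 1, 0], [], [2, 1, 4, 3, 5, 6, 4, 2, 0], [1, 0], [], [1, 0], [1, 0], [], [], [3, 2, 1, 4, 3, 2, 0], [], [0], [3, 1, 0], [], [], [],
  [], [], [], [], [], [], [], [], [], [], [], [], [], [], [], [], [], [], [], [], [], [], [], [], [], [], [], [], [], [], [], [], [], [], [], [], [], [], [], [], [], [], [], [], [],
  [], [], [], [], [], [], [], [], [], [], [], [], [], [], [], [], [], [], [], [], [], [], [], [], [], [], [], [], [], [], [], [], [], [], [], [], [], [], [], [], [], [], [], [], [],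
  [], [], []]

/-- Moves. -/
def certE : List (List ℕ) :=
  [[], [], [], [], [], [], [1, 0], [5, 4, 3, 2, 1, 0], [6, 4, 3, 2, 1, 0], [6, 5, 3, 2, 1, 0], [0], [], [2, 1, 3, 8, 7, 6, 4, 2, 0], [8, 7, 6, 4, 3, 1, 0], [1, 0], [1, 0], [0], [],
  [1, 2, 0], [1, 0], [], [7, 6, 5, 4, 3, 2, 1, 0], [1, 0], [0], [], [], [], [6, 5, 4, 3, 11, 10, 9, 7, 6, 5, 12, 11, 9, 8, 7, 13, 11, 10, 9, 8, 6, 4, 2, 1, 0], [3, 2, 1, 0], [2, 1,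
  0], [1, 0], [0], [], [8, 7, 6, 9, 8, 13, 12, 11, 9, 7, 5, 4, 3, 2, 1, 5, 4, 3, 7, 6, 5, 12, 14, 16, 15, 13, 11, 10, 9, 8, 7, 15, 14, 16, 15, 13, 12, 11, 10, 9, 24, 23, 22, 21, 20,
  19, 18, 17, 16, 26, 24, 23, 22, 21, 20, 27, 26, 24, 23, 22, 21, 19, 18, 17, 15, 14, 13, 12, 11, 10, 8, 6, 4, 2, 0], [0], [15, 14, 13, 12, 11, 10, 9, 8, 7, 6, 5, 16, 15, 14, 17, 29,
  28, 27, 26, 25, 24, 23, 21, 20, 18, 16, 15, 13, 12, 11, 10, 9, 8, 7, 6, 4, 3, 2, 1, 0], [4, 5, 3, 2, 1, 0], [2, 1, 0], [], [1, 2, 0], [1, 0], [5, 4, 6, 11, 10, 9, 7, 5, 3, 2, 1, 9,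
  8, 12, 10, 9, 7, 6, 5, 3, 2, 0], [4, 3, 2, 1, 0], [3, 2, 1, 0], [], [1, 3, 2, 0], [0], [5, 4, 3, 2, 6, 5, 4, 7, 6, 8, 16, 15, 14, 13, 12, 11, 9, 7, 5, 3, 1, 0], [1, 0], [13, 12,
  11, 14, 17, 15, 13, 12, 10, 9, 8, 7, 5, 4, 3, 2, 1, 0], [], [14, 13, 15, 14, 12, 11, 10, 8, 7, 6, 5, 3, 2, 1, 11, 17, 16, 15, 14, 12, 10, 9, 8, 7, 5, 4, 3, 2, 0], [0], [2, 12, 11,
  13, 14, 12, 10, 9, 8, 7, 6, 5, 3, 1, 0], [2, 1, 0], [3, 2, 17, 16, 15, 14, 13, 12, 11, 9, 8, 7, 6, 4, 3, 1, 0], [], [15, 16, 14, 13, 12, 11, 10, 9, 8, 7, 14, 13, 16, 18, 17, 15,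
  14, 12, 11, 20, 19, 18, 21, 23, 22, 20, 19, 17, 16, 15, 14, 12, 10, 9, 8, 6, 5, 4, 3, 2, 1, 31, 30, 29, 28, 27, 32, 31, 30, 29, 33, 32, 34, 36, 41, 40, 39, 38, 37, 35, 33, 31, 30,
  28, 26, 25, 24, 23, 22, 21, 26, 25, 24, 23, 28, 37, 36, 42, 41, 40, 38, 37, 35, 34, 33, 31, 30, 29, 27, 26, 25, 34, 43, 42, 40, 39, 38, 37, 35, 33, 32, 31, 30, 29, 27, 26, 24, 22,
  20, 19, 18, 17, 16, 15, 14, 13, 12, 11, 10, 9, 20, 19, 18, 17, 22, 21, 24, 23, 32, 31, 30, 33, 32, 35, 44, 42, 41, 40, 39, 38, 37, 36, 34, 33, 31, 29, 28, 27, 26, 25, 24, 22, 20,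
  19, 18, 16, 15, 14, 39, 38, 40, 46, 45, 44, 43, 41, 39, 37, 36, 35, 34, 33, 32, 31, 30, 28, 27, 26, 25, 37, 36, 35, 39, 47, 46, 45, 43, 42, 41, 40, 38, 37, 36, 34, 33, 32, 30, 29,
  33, 42, 41, 49, 48, 47, 46, 45, 43, 42, 40, 39, 38, 37, 36, 34, 32, 31, 30, 28, 27, 26, 24, 23, 22, 20, 19, 18, 16, 15, 13, 12, 11, 10, 8, 7, 6, 5, 4, 3, 2, 0], [0], [2, 8, 7, 11,
  9, 8, 6, 5, 4, 3, 1, 0], [1, 0], [28, 27, 26, 25, 29, 28, 30, 32, 35, 34, 33, 31, 29, 27, 26, 24, 23, 22, 21, 20, 19, 18, 17, 33, 32, 36, 34, 33, 31, 30, 29, 27, 26, 24, 23, 22,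
  21, 20, 19, 30, 36, 35, 34, 33, 31, 29, 28, 27, 26, 24, 23, 22, 21, 34, 33, 32, 35, 38, 36, 34, 33, 31, 30, 29, 28, 27, 26, 24, 23, 44, 43, 42, 41, 40, 39, 38, 37, 36, 35, 34, 46,
  44, 43, 42, 41, 40, 39, 38, 47, 46, 44, 43, 42, 41, 48, 47, 46, 44, 43, 49, 48, 47, 46, 44, 42, 40, 39, 37, 36, 35, 33, 32, 31, 30, 29, 28, 27, 26, 24, 22, 20, 18, 16, 15, 14, 13,
  12, 11, 10, 16, 18, 30, 29, 31, 35, 34, 33, 44, 45, 43, 42, 41, 40, 39, 38, 37, 36, 35, 34, 32, 30, 28, 27, 26, 25, 24, 23, 34, 33, 37, 36, 43, 45, 47, 46, 44, 42, 41, 40, 39, 38,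
  37, 35, 34, 32, 31, 30, 28, 27, 26, 37, 36, 35, 39, 50, 49, 48, 47, 51, 50, 54, 53, 52, 51, 49, 48, 46, 45, 44, 42, 41, 40, 38, 37, 36, 34, 33, 32, 31, 30, 28, 27, 25, 24, 22, 21,
  20, 19, 17, 15, 14, 13, 21, 20, 32, 42, 41, 40, 43, 42, 45, 51, 50, 49, 48, 47, 46, 44, 43, 41, 39, 38, 37, 36, 35, 33, 31, 30, 29, 28, 46, 45, 44, 53, 55, 54, 52, 51, 50, 49, 47,
  46, 45, 43, 42, 41, 39, 38, 37, 35, 34, 33, 31, 30, 29, 27, 26, 25, 24, 22, 21, 19, 18, 17, 15, 14, 12, 11, 9, 8, 7, 6, 18, 38, 37, 36, 35, 39, 38, 40, 42, 54, 53, 52, 51, 50, 49,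
  48, 46, 45, 44, 43, 41, 39, 37, 36, 34, 33, 32, 31, 30, 43, 42, 55, 54, 53, 52, 51, 50, 48, 47, 46, 44, 43, 41, 40, 39, 37, 36, 34, 33, 32, 31, 29, 28, 27, 26, 25, 24, 22, 21, 19,
  17, 16, 15, 14, 12, 11, 9, 8, 26, 25, 24, 23, 27, 37, 36, 38, 52, 51, 50, 49, 48, 53, 57, 56, 54, 52, 51, 50, 49, 47, 46, 45, 44, 43, 42, 41, 39, 37, 35, 34, 33, 32, 31, 30, 28,
  26, 25, 24, 22, 21, 20, 19, 18, 16, 15, 41, 40, 58, 56, 55, 54, 52, 51, 50, 49, 47, 46, 45, 44, 42, 41, 39, 38, 37, 35, 34, 33, 32, 30, 29, 28, 26, 25, 24, 22, 21, 20, 18, 17, 21,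
  29, 45, 44, 43, 42, 46, 55, 59, 58, 56, 54, 53, 52, 51, 50, 49, 47, 45, 44, 43, 41, 40, 39, 38, 37, 35, 34, 33, 32, 30, 28, 27, 26, 25, 24, 22, 20, 19, 18, 16, 14, 13, 12, 11, 9,
  7, 5, 4, 3, 5, 7, 13, 12, 14, 16, 26, 25, 24, 23, 27, 26, 28, 30, 51, 50, 49, 48, 47, 46, 45, 44, 52, 51, 50, 49, 53, 52, 54, 56, 60, 59, 58, 57, 55, 53, 51, 50, 48, 47, 46, 45,
  43, 42, 41, 40, 39, 38, 37, 35, 34, 33, 32, 31, 29, 27, 25, 24, 22, 21, 20, 19, 18, 17, 15, 13, 11, 10, 9, 8, 6, 4, 2, 1, 0], [2, 1, 0], [], [], [], [], [], [], [], [], [], [], [],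
  [], [], [], [], [], [], [], [], [], [], [], [], [], [], [], [], [], [], [], [], [], [], [], [], [], [], [], [], [], [], [], [], [], [], [], [], [], [], [], [], [], [], [], [], [],
  [], [], [], [], [], [], []]

/-- Moves for the commutations of the seven reflections. -/
def orthComm : List (ℕ × ℕ × List (List ℕ)) := [
(0, 1, [[], [0], [], []]),
(0, 2, [[], [0], [], []]),
(0, 3, [[], [0], [], []]),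
(0, 4, [[], [0], [0], [0], [0], [0], [0], [0], [0], [0], [], [], [], [], [], [], [], [], [], []]),
(0, 5, [[], [], [], [], [], [], [], [], [], [], [8, 7, 6, 5, 4, 3, 2, 0], [9, 7, 6, 5, 4, 3, 1, 0], [9, 8, 6, 5, 4, 2, 1, 0], [4, 9, 8, 7, 5, 3, 2, 1, 0], [9, 8, 7, 5, 3, 2, 1, 0],
    [9, 8, 6, 5, 4, 2, 1, 0], [9, 7, 6, 5, 4, 3, 1, 0], [8, 7, 6, 5, 4, 3, 2, 0], [], [], [], [], [], [], [], [], [], [], [], [], [], [], [], [], [], []]),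
(0, 6, [[], [0], [0], [0], [0], [0], [0], [0], [], [], [], [], [4, 3, 2, 1, 0], [], [], [], [], [], [10, 8, 7, 6, 5, 4, 3, 2, 0], [10, 9, 7, 6, 5, 4, 3, 1, 0], [10, 9, 8, 6, 5, 4,
    2, 1, 0], [4, 10, 9, 8, 7, 5, 3, 2, 1, 0], [4, 3, 2, 1, 0], [10, 9, 8, 6, 5, 3, 2, 1, 0], [10, 9, 7, 6, 5, 4, 2, 1, 0], [10, 8, 7, 6, 5, 4, 3, 1, 0], [9, 8, 7, 6, 5, 4, 3, 2,
    0], [0], [0], [0], [0], [0], [0], [0], [], [], [], [], [], [], [], [], [], [], [], [], [], [], [], [], [], [], [], [], [], [], [], [], [], [], [], [], [], [], [], [], [], []]),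
(1, 2, [[], [0], [], []]),
(1, 3, [[], [0], [], []]),
(1, 4, [[], [], [], [], [], [], [4, 3, 2, 0], [2, 5, 3, 1, 0], [5, 3, 1, 0], [4, 3, 2, 0], [], [], [], [], [], [], [], [], [], []]),
(1, 5, [[], [], [0], [0], [0], [0], [0], [], [0], [0], [], [0], [0], [0], [0], [0], [], [0], [], [], [], [], [], [], [], [], [], [], [], [], [], [], [], [], [], []]),
(1, 6, [[], [0], [0], [], [], [1, 0], [2, 0], [0], [0], [0], [], [0], [0], [], [0], [0], [0], [0], [0], [0], [], [0], [0], [], [0], [0], [0], [0], [], [], [1, 0], [2, 0], [0], [0],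
    [], [], [], [], [], [], [], [], [], [], [], [], [], [], [], [], [], [], [], [], [], [], [], [], [], [], [], [], [], [], [], [], [], []]),
(2, 3, [[], [0], [], []]),
(2, 4, [[], [], [], [1, 0], [2, 0], [0], [], [], [1, 0], [2, 0], [], [], [], [], [], [], [], [], [], []]),
(2, 5, [[], [0], [0], [], [], [1, 0], [2, 0], [0], [0], [0], [0], [0], [], [], [1, 0], [2, 0], [0], [0], [], [], [], [], [], [], [], [], [], [], [], [], [], [], [], [], [], []]),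
(2, 6, [[], [], [0], [0], [0], [0], [0], [], [1, 0], [1, 0], [], [], [5, 4, 2, 1, 0], [3, 1, 0], [3, 2, 0], [0], [0], [0], [0], [0], [], [], [], [2, 1, 0], [3, 1, 0], [1, 0], [1,
    0], [5, 4, 3, 2, 0], [0], [0], [0], [0], [], [0], [], [], [], [], [], [], [], [], [], [], [], [], [], [], [], [], [], [], [], [], [], [], [], [], [], [], [], [], [], [], [], [],
    [], []]),
(3, 4, [[], [], [0], [], [0], [0], [], [0], [], [0], [], [], [], [], [], [], [], [], [], []]),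
(3, 5, [[], [0], [0], [], [0], [], [0], [0], [0], [0], [0], [0], [], [0], [], [0], [0], [0], [], [], [], [], [], [], [], [], [], [], [], [], [], [], [], [], [], []]),
(3, 6, [[], [0], [0], [], [0], [], [0], [0], [], [0], [0], [0], [0], [0], [0], [], [0], [0], [], [0], [0], [0], [0], [0], [0], [], [0], [0], [], [0], [], [0], [0], [0], [], [], [],
    [], [], [], [], [], [], [], [], [], [], [], [], [], [], [], [], [], [], [], [], [], [], [], [], [], [], [], [], [], [], []]),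
(4, 5, [[], [], [], [], [], [], [], [], [], [3, 2, 1, 0], [], [3, 2, 0], [1, 0], [0], [], [5, 3, 2, 1, 7, 6, 5, 3, 9, 8, 7, 6, 12, 11, 9, 8, 14, 13, 12, 11, 9, 7, 5, 4, 2, 0], [8,
    7, 6, 5, 9, 8, 7, 11, 9, 12, 13, 11, 10, 8, 6, 4, 3, 2, 1, 0], [8, 7, 6, 5, 4, 3, 2, 1, 0], [3, 2, 1, 0], [], [3, 2, 0], [1, 0], [0], [], [5, 3, 2, 1, 7, 6, 5, 3, 9, 8, 7, 6,
    12, 11, 9, 8, 14, 13, 12, 11, 9, 7, 5, 4, 2, 0], [8, 7, 6, 5, 9, 8, 7, 11, 9, 12, 13, 11, 10, 8, 6, 4, 3, 2, 1, 0], [], [], [], [], [], [], [], [], [], [], [], [], [], [], [],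
    [], [], [], [], [], [], [], [], [], [], []]),
(4, 6, [[], [], [], [], [], [], [], [], [], [1, 0], [], [7, 6, 5, 3, 2, 0], [3, 2, 6, 4, 3, 1, 0], [0], [], [1, 3, 9, 8, 10, 12, 14, 13, 11, 9, 7, 6, 5, 4, 2, 0], [0], [], [1, 4, 3,
    11, 10, 9, 8, 7, 6, 5, 4, 2, 0], [1, 0], [12, 11, 10, 13, 12, 11, 9, 8, 7, 6, 5, 15, 13, 12, 11, 9, 8, 16, 17, 15, 14, 13, 12, 11, 9, 7, 6, 4, 3, 2, 1, 0], [4, 7, 5, 3, 2, 1,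
    0], [], [8, 15, 14, 12, 11, 9, 7, 6, 5, 3, 2, 0], [8, 9, 7, 6, 5, 4, 3, 2, 7, 9, 13, 12, 11, 10, 8, 6, 5, 12, 11, 14, 15, 13, 12, 10, 9, 8, 6, 4, 3, 1, 0], [8, 7, 6, 5, 4, 3, 2,
    1, 0], [0], [], [1, 3, 8, 7, 6, 5, 4, 2, 0], [1, 0], [1, 0], [5, 8, 6, 4, 3, 2, 1, 0], [], [9, 15, 13, 12, 10, 8, 7, 6, 4, 3, 2, 0], [9, 10, 8, 7, 6, 5, 4, 3, 2, 8, 10, 13, 12,
    11, 9, 7, 6, 13, 12, 14, 13, 11, 10, 9, 7, 5, 4, 3, 1, 0], [], [7, 6, 5, 3, 2, 0], [3, 2, 6, 4, 3, 1, 0], [0], [], [1, 3, 9, 8, 10, 12, 18, 17, 16, 15, 14, 13, 11, 9, 7, 6, 5,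
    4, 2, 0], [8, 7, 9, 8, 6, 5, 4, 3, 11, 9, 8, 6, 5, 12, 13, 11, 10, 9, 8, 6, 4, 2, 1, 0], [], [], [], [], [], [], [], [], [], [], [], [], [], [], [], [], [], [], [], [], [], [],
    [], [], [], [], [], [], [], [], [], [], [], [], [], [], [], [], [], [], [], []]),
(5, 6, [[], [], [], [], [], [], [], [], [], [], [], [], [], [], [], [], [], [3, 2, 1, 0], [1, 0], [0], [0], [], [], [], [5, 4, 3, 6, 18, 17, 16, 15, 14, 13, 12, 10, 9, 7, 5, 4, 2,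
    1, 0], [2, 10, 9, 17, 16, 15, 14, 13, 11, 10, 8, 7, 6, 5, 3, 1, 0], [6, 5, 8, 16, 15, 14, 12, 11, 10, 9, 7, 6, 4, 3, 2, 0], [3, 2, 4, 7, 6, 15, 13, 12, 11, 10, 9, 8, 7, 5, 3, 1,
    0], [], [10, 9, 8, 11, 18, 17, 16, 15, 14, 12, 10, 9, 7, 6, 5, 4, 3, 2, 0], [7, 16, 15, 13, 12, 11, 10, 8, 6, 5, 4, 3, 1, 0], [11, 10, 16, 15, 14, 12, 11, 9, 8, 7, 5, 4, 2, 1,
    0], [7, 6, 5, 4, 8, 7, 9, 11, 16, 15, 14, 13, 12, 10, 8, 6, 5, 3, 2, 1, 0], [7, 6, 5, 4, 3, 2, 1, 0], [2, 1, 0], [1, 0], [0], [], [3, 2, 1, 4, 3, 5, 7, 28, 27, 26, 25, 24, 23,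
    22, 21, 29, 28, 27, 26, 30, 29, 31, 33, 37, 36, 35, 34, 32, 30, 28, 27, 25, 24, 23, 22, 20, 19, 18, 17, 16, 15, 14, 12, 11, 10, 9, 8, 6, 4, 2, 0], [0], [], [], [], [3, 11, 27,
    26, 25, 24, 28, 37, 41, 40, 38, 36, 35, 34, 33, 32, 31, 29, 27, 26, 25, 23, 22, 21, 20, 19, 17, 16, 15, 14, 12, 10, 9, 8, 7, 6, 4, 2, 1, 0], [24, 23, 41, 39, 38, 37, 35, 34, 33,
    32, 30, 29, 28, 27, 25, 24, 22, 21, 20, 18, 17, 16, 15, 13, 12, 11, 9, 8, 7, 5, 4, 3, 1, 0], [10, 9, 8, 7, 11, 21, 20, 22, 36, 35, 34, 33, 32, 37, 41, 40, 38, 36, 35, 34, 33,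
    31, 30, 29, 28, 27, 26, 25, 23, 21, 19, 18, 17, 16, 15, 14, 12, 10, 9, 8, 6, 5, 4, 3, 2, 0], [3, 23, 22, 21, 20, 24, 23, 25, 27, 39, 38, 37, 36, 35, 34, 33, 31, 30, 29, 28, 26,
    24, 22, 21, 19, 18, 17, 16, 15, 28, 27, 40, 39, 38, 37, 36, 35, 33, 32, 31, 29, 28, 26, 25, 24, 22, 21, 19, 18, 17, 16, 14, 13, 12, 11, 10, 9, 7, 6, 4, 2, 1, 0], [7, 6, 18, 28,
    27, 26, 29, 28, 31, 37, 36, 35, 34, 33, 32, 30, 29, 27, 25, 24, 23, 22, 21, 19, 17, 16, 15, 14, 32, 31, 30, 39, 41, 40, 38, 37, 36, 35, 33, 32, 31, 29, 28, 27, 25, 24, 23, 21,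
    20, 19, 17, 16, 15, 13, 12, 11, 10, 8, 7, 5, 4, 3, 1, 0], [3, 5, 17, 16, 18, 22, 21, 20, 31, 32, 30, 29, 28, 27, 26, 25, 24, 23, 22, 21, 19, 17, 15, 14, 13, 12, 11, 10, 21, 20,
    24, 23, 30, 32, 34, 33, 31, 29, 28, 27, 26, 25, 24, 22, 21, 19, 18, 17, 15, 14, 13, 24, 23, 22, 26, 37, 36, 35, 34, 38, 37, 41, 40, 39, 38, 36, 35, 33, 32, 31, 29, 28, 27, 25,
    24, 23, 21, 20, 19, 18, 17, 15, 14, 12, 11, 9, 8, 7, 6, 4, 2, 1, 0], [16, 15, 14, 13, 17, 16, 18, 20, 23, 22, 21, 19, 17, 15, 14, 12, 11, 10, 9, 8, 7, 6, 5, 21, 20, 24, 22, 21,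
    19, 18, 17, 15, 14, 12, 11, 10, 9, 8, 7, 18, 24, 23, 22, 21, 19, 17, 16, 15, 14, 12, 11, 10, 9, 22, 21, 20, 23, 26, 24, 22, 21, 19, 18, 17, 16, 15, 14, 12, 11, 32, 31, 30, 29,
    28, 27, 26, 25, 24, 23, 22, 34, 32, 31, 30, 29, 28, 27, 26, 35, 34, 32, 31, 30, 29, 36, 35, 34, 32, 31, 37, 36, 35, 34, 32, 30, 28, 27, 25, 24, 23, 21, 20, 19, 18, 17, 16, 15,
    14, 12, 10, 8, 6, 4, 3, 2, 1, 0], [], [], [], [], [], [], [], [], [], [], [], [], [], [], [], [], [], [], [], [], [], [], [], [], [], [], [], [], [], [], [], [], [], [], [], [],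
    [], [], [], [], [], [], [], [], [], [], [], [], [], []])]

end CfsgLib.Recog.FiThree.Mult
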