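import Cfsg.Agent.Lib.Recog.FiThree.Mult.Data
import Cfsg.Agent.Lib.Recog.FiThree.Mult.Moves
import Cfsg.Agent.Lib.Recog.FiThree.Data
import Mathlib.Tactic.IntervalCases

set_option autoImplicit false
set_option maxRecDepth 20000
set_option Elab.async false

/-! Kernel checks for the Schur multiplier of Fi23 (owner: helper18). -/

namespace CfsgLib.Recog.FiThree.Mult

open CfsgLib.Recog.BitPerm CfsgLib.ThreeTrans.CosetIndex

/-- Braid chains from the first letter. -/
def chain : ℕ → List ℕ
  | 1 => [0, 1]
  | 2 => [1, 2, 0, 1]
  | 3 => [2, 3, 1, 2, 0, 1]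
  | 4 => [3, 4, 2, 3, 1, 2, 0, 1]
  | 7 => [3, 7, 2, 3, 1, 2, 0, 1]
  | 5 => [4, 5, 3, 4, 2, 3, 1, 2, 0, 1]
  | 6 => [5, 6, 4, 5, 3, 4, 2, 3, 1, 2, 0, 1]
  | 8 => [7, 8, 3, 7, 2, 3, 1, 2, 0, 1]
  | _ => []

/-- A word conjugating the base transposition to a letter. -/
def gw (x : ℕ) : List ℕ := if Nat.beq x 9 then gj else chain x ++ ga

/-- The palindrome of a reflection. -/
def palOf (e : List ℕ × ℕ) : List ℕ := e.1 ++ [e.2] ++ e.1.reverse

/-- The word of the seven reflections. -/
def orthWord : List ℕ := orth.flatMap palOf

/-- The word of a word in the cycle. -/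
def hexOf (w : List ℕ) : List ℕ := w.flatMap fun i => palOf (hexa.getD i ([], 0))

/-- The word of the first extra relator. -/
def spider : List ℕ := (List.replicate 10 [3, 2, 1, 3, 4, 5, 3, 7, 8]).flatten

/-- The word of the second extra relator. -/
def coxSeven : List ℕ := (List.replicate 9 [0, 1, 2, 3, 4, 5, 7]).flatten

/-- The check of a conjugating word. -/
noncomputable def gwOK (x : ℕ) : Bool := idOK 15 net (gw x ++ zW ++ (gw x).reverse ++ [x])

theorem gw_conj_0 : gwOK 0 = true := by decide +kernel

theorem gw_conj_1 : gwOK 1 = true := by decide +kernel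

theorem gw_conj_2 : gwOK 2 = true := by decide +kernel

theorem gw_conj_3 : gwOK 3 = true := by decide +kernel

theorem gw_conj_4 : gwOK 4 = true := by decide +kernel

theorem gw_conj_5 : gwOK 5 = true := by decide +kernel

theorem gw_conj_6 : gwOK 6 = true := by decide +kernel

theorem gw_conj_7 : gwOK 7 = true := by decide +kernel

theorem gw_conj_8 : gwOK 8 = true := by decide +kernel

theorem gw_conj_9 : gwOK 9 = true := by decide +kernel

theorem gw_conj : ∀ x < 10, gwOK x = true := by
  intro x hx
  interval_cases x
  · exact gw_conj_0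
  · exact gw_conj_1
  · exact gw_conj_2
  · exact gw_conj_3
  · exact gw_conj_4
  · exact gw_conj_5
  · exact gw_conj_6
  · exact gw_conj_7
  · exact gw_conj_8
  · exact gw_conj_9

/-- Where the reversing element sends the base point of a reflection. -/
noncomputable def flipOK (i : ℕ) : Bool :=
  let e := hexa.getD i ([], 0)
  let d := hexa.getD (sig.getD i 0) ([], 0)
  mapsOK net ((d.1 ++ gw d.2).reverse ++ (flipW ++ (e.1 ++ gw e.2))) 0 0

theorem flip_ok_0 : flipOK 0 = true := by decide +kernel

theorem flip_ok_1 : flipOK 1 = true := by decide +kernel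

theorem flip_ok_2 : flipOK 2 = true := by decide +kernel

theorem flip_ok_3 : flipOK 3 = true := by decide +kernel

theorem flip_ok_4 : flipOK 4 = true := by decide +kernel

theorem flip_ok_5 : flipOK 5 = true := by decide +kernel

theorem flip_ok : ∀ i < 6, flipOK i = true := by
  intro i hi
  interval_cases i
  · exact flip_ok_0
  · exact flip_ok_1
  · exact flip_ok_2
  · exact flip_ok_3
  · exact flip_ok_4
  · exact flip_ok_5


theorem seven_red : (reduceBy (coxSeven ++ orthWord) certE == some []) = true := by decide +kernel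

theorem hex_red : (reduceBy (hexOf hexWord ++ (conA ++ spider.reverse ++ conA.reverse)) certA == some []) = true := by
  decide +kernel

theorem flip_red : (reduceBy (hexOf (hexWord.map fun i => sig.getD i 0) ++ (conB ++ spider ++ conB.reverse)) certB
    == some []) = true := by decide +kernel

theorem cube_red : (reduceBy (spider ++ (conC ++ spider ++ conC.reverse) ++ (conD ++ spider ++ conD.reverse)) certC
    == some []) = true := by decide +kernel

theorem orth_len : orth.length = 7 ∧ hexa.length = 6 ∧ sig.length = 6 ∧ hexWord.all (fun i => Nat.blt i 6) = true ∧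
    orth.all (fun e => Nat.blt e.2 10) = true ∧ hexa.all (fun e => Nat.blt e.2 10) = true ∧
    sig.all (fun i => Nat.blt i 6) = true := by decide +kernel

theorem orth_comm : ((List.range 7).all fun i => (List.range 7).all fun j => !Nat.blt i j || orthComm.any fun e =>
    Nat.beq e.1 i && Nat.beq e.2.1 j && (reduceBy (palOf (orth.getD i ([], 0)) ++ palOf (orth.getD j ([], 0)) ++
      palOf (orth.getD i ([], 0)) ++ palOf (orth.getD j ([], 0))) e.2.2 == some [])) = true := by decide +kernel

theorem extra_words : Cfsg.Spor.Fi23.extra.map (letters gens) = [spider, coxSeven] := by decide +kernel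

end CfsgLib.Recog.FiThree.Mult
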